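import Groth.Agent.SmoothCartier.Scheme
import Mathlib

/-!
Étale charts to affine space given by sections.
-/

set_option linter.style.haveILetI false

universe u

open CategoryTheory AlgebraicGeometry MvPolynomial

namespace Groth.Agent.EtaleChart

attribute [local instance] MvPolynomial.algebraMvPolynomial

theorem etale_homOfVector_iff {n : Type u} {X S : Scheme.{u}} [IsAffine X] [IsAffine S] (f : X ⟶ S) (v : n → Γ(X, ⊤)) :
    Etale (AffineSpace.homOfVector f v) ↔ (MvPolynomial.eval₂Hom f.appTop.hom v).Etale := by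
  rw [HasRingHomProperty.iff_of_isAffine (P := @Etale)]
  let e := AffineSpace.isoOfIsAffine n S
  have h : CommRingCat.ofHom (MvPolynomial.eval₂Hom f.appTop.hom v) =
      CommRingCat.ofHom (MvPolynomial.eval₂Hom ((𝔸(n; S) ↘ S).appTop).hom (AffineSpace.coord S)) ≫
        (AffineSpace.homOfVector f v).appTop := by
    ext : 1
    refine MvPolynomial.ringHom_ext (fun r => ?_) fun i => ?_
    · simp only [CommRingCat.hom_comp, RingHom.comp_apply, CommRingCat.hom_ofHom, MvPolynomial.eval₂Hom_C]
      rw [← CommRingCat.comp_apply, ← Scheme.Hom.comp_appTop, AffineSpace.homOfVector_over]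
    · simp only [CommRingCat.hom_comp, RingHom.comp_apply, CommRingCat.hom_ofHom, MvPolynomial.eval₂Hom_X']
      exact (AffineSpace.homOfVector_appTop_coord f v i).symm
  haveI : IsIso (CommRingCat.ofHom (MvPolynomial.eval₂Hom ((𝔸(n; S) ↘ S).appTop).hom (AffineSpace.coord S))) := by
    have h1 : IsIso (AffineSpace.isoOfIsAffine n S).hom.appTop :=
      inferInstanceAs (IsIso (Scheme.Γ.map (AffineSpace.isoOfIsAffine n S).hom.op))
    rw [AffineSpace.isoOfIsAffine_hom_appTop] at h1
    exact IsIso.of_isIso_comp_left (Scheme.ΓSpecIso _).hom _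
  have h2 := congrArg (fun g => g.hom.Etale) h
  exact ((RingHom.Etale.respectsIso.cancel_left_isIso _ _).symm.trans (Iff.of_eq h2.symm))

set_option backward.isDefEq.respectTransparency.types false in
theorem smooth_over (n : Type u) [Finite n] (S : Scheme.{u}) : Smooth (𝔸(n; S) ↘ S) :=
  MorphismProperty.pullback_fst _ _ <| by
  have := Limits.isIso_of_isTerminal specULiftZIsTerminal.{u} Limits.terminalIsTerminal (Limits.terminal.from _)
  rw [← Limits.terminal.comp_from (Spec.map (CommRingCat.ofHom C)),
    MorphismProperty.cancel_right_of_respectsIso (P := @Smooth),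
    HasRingHomProperty.Spec_iff (P := @Smooth)]
  haveI : Algebra.Smooth (ULift.{u} ℤ) (MvPolynomial n (ULift.{u} ℤ)) := ⟨inferInstance, inferInstance⟩
  exact RingHom.smooth_algebraMap.2 this

theorem etale_eval₂_comp_of_away {A₀ A C : Type u} [CommRing A₀] [CommRing A] [CommRing C] [Algebra A₀ A] (a : A₀)
    [IsLocalization.Away a A] [Algebra A C] [Algebra A₀ C] [IsScalarTower A₀ A C] [Algebra.FinitePresentation A₀ C]
    {n : Type u} [Finite n] (w : n → C) (h : (MvPolynomial.eval₂Hom (algebraMap A₀ C) w).Etale) :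
    (MvPolynomial.eval₂Hom (algebraMap A C) w).Etale := by
  letI : Algebra (MvPolynomial n A₀) C := (MvPolynomial.eval₂Hom (algebraMap A₀ C) w).toAlgebra
  letI : Algebra (MvPolynomial n A) C := (MvPolynomial.eval₂Hom (algebraMap A C) w).toAlgebra
  haveI : IsScalarTower (MvPolynomial n A₀) (MvPolynomial n A) C := IsScalarTower.of_algebraMap_eq' (by
    refine MvPolynomial.ringHom_ext (fun r => ?_) fun i => ?_
    · simp [RingHom.algebraMap_toAlgebra, IsScalarTower.algebraMap_apply A₀ A C]
    · simp [RingHom.algebraMap_toAlgebra])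
  haveI : IsScalarTower A (MvPolynomial n A) C := IsScalarTower.of_algebraMap_eq fun r => by
    simp [RingHom.algebraMap_toAlgebra]
  haveI : Algebra.Etale (MvPolynomial n A₀) C := h
  haveI : Algebra.FormallyEtale (MvPolynomial n A₀) (MvPolynomial n A) :=
    .of_isLocalization (((Submonoid.powers a)).map (MvPolynomial.C : A₀ →+* MvPolynomial n A₀))
  haveI : Algebra.FormallyEtale (MvPolynomial n A) C :=
    Algebra.FormallyEtale.of_restrictScalars (R := MvPolynomial n A₀)
  haveI : Algebra.FiniteType A₀ A := IsLocalization.finiteType_of_monoid_fg (Submonoid.powers a) A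
  haveI : Algebra.FinitePresentation A C := Algebra.FinitePresentation.of_restrict_scalars_finitePresentation A₀ A C
  haveI : Algebra.FinitePresentation (MvPolynomial n A) C :=
    Algebra.FinitePresentation.of_restrict_scalars_finitePresentation A (MvPolynomial n A) C
  exact RingHom.etale_algebraMap.2 ⟨inferInstance, inferInstance⟩

theorem etale_eval₂_translate {A C : Type u} [CommRing A] [CommRing C] (φ : A →+* C)
    {n : Type u} (w : n → C) (c : n → A) (h : (MvPolynomial.eval₂Hom φ w).Etale) :
    (MvPolynomial.eval₂Hom φ fun i => w i - φ (c i)).Etale := by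
  let τ : MvPolynomial n A →ₐ[A] MvPolynomial n A := MvPolynomial.aeval fun i => X i - MvPolynomial.C (c i)
  let τ' : MvPolynomial n A →ₐ[A] MvPolynomial n A := MvPolynomial.aeval fun i => X i + MvPolynomial.C (c i)
  let e : MvPolynomial n A ≃ₐ[A] MvPolynomial n A := AlgEquiv.ofAlgHom τ τ'
    (MvPolynomial.algHom_ext fun i => by simp [τ, τ'])
    (MvPolynomial.algHom_ext fun i => by simp [τ, τ'])
  have he : MvPolynomial.eval₂Hom φ (fun i => w i - φ (c i)) =
      (MvPolynomial.eval₂Hom φ w).comp e.toRingEquiv.toRingHom := by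
    refine MvPolynomial.ringHom_ext (fun r => ?_) fun i => ?_
    · simp [e, τ]
    · simp [e, τ]
  rw [he]
  exact RingHom.Etale.respectsIso.2 _ e.toRingEquiv h

end Groth.Agent.EtaleChart
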